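import Mathlib.RingTheory.Length
import Mathlib.RingTheory.Support
import Mathlib.RingTheory.Spectrum.Prime.RingHom
import Mathlib.RingTheory.Artinian.Module
import Mathlib.RingTheory.Artinian.Ring
import Mathlib.RingTheory.SimpleModule.Basic
import Mathlib.RingTheory.Finiteness.Basic

/-!
# A system of modules generated by commuting operators, one of which is invertible
-/

universe u

open PrimeSpectrum (zeroLocus)

namespace GrothLib.Fib5

/-- A finitely generated module killed by a maximal ideal is Artinian and Noetherian. -/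
theorem artinian_noetherian_of_killed {R : Type u} [CommRing R] (m : Ideal R) [m.IsMaximal] {N : Type u}
    [AddCommGroup N] [Module R N] [Module.Finite R N] (h : ∀ r ∈ m, ∀ y : N, r • y = 0) :
    IsArtinian R N ∧ IsNoetherian R N := by
  obtain ⟨n, v, hv⟩ := Module.Finite.exists_fin (R := R) (M := N)
  haveI : IsSimpleModule R (R ⧸ m) := isSimpleModule_iff_isCoatom.mpr (Ideal.isMaximal_def.1 inferInstance)
  let f : ∀ i, (R ⧸ m) →ₗ[R] N := fun i => Submodule.liftQ m (LinearMap.toSpanSingleton R N (v i)) fun r hr => by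
    simpa using h r hr (v i)
  let g : (Fin n → R ⧸ m) →ₗ[R] N := ∑ i, (f i).comp (LinearMap.proj i)
  have hg : Function.Surjective g := by
    rw [← LinearMap.range_eq_top, ← top_le_iff, ← hv, Submodule.span_le]
    rintro _ ⟨i, rfl⟩
    refine ⟨Pi.single i (Submodule.Quotient.mk 1), ?_⟩
    simp only [g, LinearMap.coe_sum, Finset.sum_apply, LinearMap.comp_apply, LinearMap.proj_apply]
    rw [Finset.sum_eq_single i (fun j _ hj => by rw [Pi.single_eq_of_ne hj, map_zero]) (by simp)]
    rw [Pi.single_eq_same]
    refine (Submodule.liftQ_apply _ _ _).trans ?_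
    exact one_smul R (v i)
  exact ⟨isArtinian_of_surjective _ g hg, isNoetherian_of_surjective g (LinearMap.range_eq_top.2 hg)⟩

/-- The ranges of a system move up bijectively. -/
theorem map_range_eq_of_system {R : Type u} [CommRing R] {ι : Type*} [Fintype ι]
    (P Q : ℕ → Type u) [∀ i, AddCommGroup (P i)] [∀ i, Module R (P i)]
    [∀ i, AddCommGroup (Q i)] [∀ i, Module R (Q i)]
    (res : ∀ i, P i →ₗ[R] Q i) (A : ι → ∀ i, P i →ₗ[R] P (i + 1)) (B : ι → ∀ i, Q i →ₗ[R] Q (i + 1))
    (hAB : ∀ j i p, res (i + 1) (A j i p) = B j i (res i p))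
    (hcomm : ∀ j j' i q, B j (i + 1) (B j' i q) = B j' (i + 1) (B j i q))
    (hsum : ∀ i (z : P (i + 2)), ∃ s : ι → P (i + 1), z = ∑ j, A j (i + 1) (s j))
    (l : ι) (h01 : LinearMap.range (res 1) ≤ (LinearMap.range (res 0)).map (B l 0)) :
    ∀ i, (LinearMap.range (res i)).map (B l i) = LinearMap.range (res (i + 1)) := by
  intro i
  refine le_antisymm ?_ ?_
  · rintro _ ⟨_, ⟨p, rfl⟩, rfl⟩
    exact ⟨A l i p, hAB l i p⟩
  induction i with
  | zero => exact h01
  | succ i ih =>
    rintro _ ⟨z, rfl⟩
    obtain ⟨s, rfl⟩ := hsum i z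
    rw [map_sum]
    refine Submodule.sum_mem _ fun j _ => ?_
    obtain ⟨_, ⟨p, rfl⟩, e⟩ := ih ⟨s j, rfl⟩
    refine ⟨res (i + 1) (A j i p), ⟨_, rfl⟩, ?_⟩
    rw [hAB j (i + 1), ← e, hAB, hcomm]

/-- Points of the support over a maximal ideal modulo which the module is of finite length. -/
theorem finite_maximal_of_artinian {R A M : Type u} [CommRing R] [CommRing A] [Algebra R A] [AddCommGroup M]
    [Module A M] [Module R M] [IsScalarTower R A M] [Module.Finite A M] (m : Ideal R)
    (h : IsArtinian R (M ⧸ (m • ⊤ : Submodule R M))) :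
    {p : PrimeSpectrum A | p ∈ Module.support A M ∧ m.map (algebraMap R A) ≤ p.asIdeal}.Finite ∧
      ∀ p : PrimeSpectrum A, p ∈ Module.support A M → m.map (algebraMap R A) ≤ p.asIdeal →
        p.asIdeal.IsMaximal := by
  let I := m.map (algebraMap R A)
  let N := M ⧸ (I • ⊤ : Submodule A M)
  haveI : IsArtinian R N :=
    ((Submodule.quotEquivOfEq _ _ (by
        rw [Ideal.smul_restrictScalars, Submodule.restrictScalars_top])).trans
      (Submodule.Quotient.restrictScalarsEquiv R (I • ⊤ : Submodule A M))).isArtinian_iff.1 h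
  haveI : IsArtinian A N := isArtinian_of_tower R inferInstance
  obtain ⟨n, v, hv⟩ := Module.Finite.exists_fin (R := A) (M := N)
  let φ : A →ₗ[A] (Fin n → N) := LinearMap.pi fun i => LinearMap.toSpanSingleton A N (v i)
  have hker : LinearMap.ker φ = Module.annihilator A N := by
    refine le_antisymm (fun a ha => Module.mem_annihilator.2 fun y => ?_) fun a ha => ?_
    · have hy : y ∈ Submodule.span A (Set.range v) := hv ▸ Submodule.mem_top
      induction hy using Submodule.span_induction with
      | mem x hx =>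
        obtain ⟨i, rfl⟩ := hx
        simpa [φ] using congrFun (LinearMap.mem_ker.1 ha) i
      | zero => exact smul_zero _
      | add x y _ _ hx hy => rw [smul_add, hx, hy, add_zero]
      | smul c x _ hx => rw [smul_comm, hx, smul_zero]
    · ext i
      simpa [φ] using Module.mem_annihilator.1 ha (v i)
  let ψ : (A ⧸ Module.annihilator A N) →ₗ[A] (Fin n → N) := Submodule.liftQ _ φ hker.ge
  haveI : IsArtinian A (A ⧸ Module.annihilator A N) := by
    refine isArtinian_of_injective ψ (LinearMap.ker_eq_bot.1 ?_)
    exact Submodule.ker_liftQ_eq_bot _ _ _ hker.le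
  haveI : IsArtinianRing (A ⧸ Module.annihilator A N) := isArtinian_of_tower A inferInstance
  have hmem : ∀ p : PrimeSpectrum A, p ∈ Module.support A M → I ≤ p.asIdeal →
      Module.annihilator A N ≤ p.asIdeal := fun p hp hI => by
    have h1 : p ∈ Module.support A N := by
      rw [Module.support_quotient]
      exact ⟨hp, (PrimeSpectrum.mem_zeroLocus _ _).2 (SetLike.coe_subset_coe.2 hI)⟩
    rw [Module.support_eq_zeroLocus] at h1
    exact SetLike.coe_subset_coe.1 ((PrimeSpectrum.mem_zeroLocus _ _).1 h1)
  refine ⟨?_, fun p hp hI => ?_⟩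
  · refine Set.Finite.subset (Set.finite_range
      (PrimeSpectrum.comap (Ideal.Quotient.mk (Module.annihilator A N)))) fun p hp => ?_
    rw [range_comap_of_surjective _ _ Ideal.Quotient.mk_surjective, Ideal.mk_ker,
      PrimeSpectrum.mem_zeroLocus]
    exact SetLike.coe_subset_coe.2 (hmem p hp.1 hp.2)
  · have hle := hmem p hp hI
    have hk : RingHom.ker (Ideal.Quotient.mk (Module.annihilator A N)) ≤ p.asIdeal := by
      rwa [Ideal.mk_ker]
    haveI := Ideal.map_isPrime_of_surjective (Ideal.Quotient.mk_surjective (I := Module.annihilator A N)) hk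
    haveI := IsArtinianRing.isMaximal_of_isPrime (p.asIdeal.map (Ideal.Quotient.mk (Module.annihilator A N)))
    have := Ideal.comap_isMaximal_of_surjective (Ideal.Quotient.mk (Module.annihilator A N))
      Ideal.Quotient.mk_surjective (K := p.asIdeal.map (Ideal.Quotient.mk (Module.annihilator A N)))
    rwa [Ideal.comap_map_quotientMk, sup_of_le_right hle] at this

end GrothLib.Fib5
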