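import Groth.Agent.Lib.CMReg.Chase
import Groth.Agent.Lib.Ample.ModTwistMap

/-!
# Twisting a twisted module once more
-/

universe u

set_option backward.isDefEq.respectTransparency false
set_option autoImplicit false
set_option maxHeartbeats 600000

open AlgebraicGeometry CategoryTheory CategoryTheory.Limits TopologicalSpace Opposite
open GrothLib.InvExt (mres)
open GrothLib.Ample (Cocycle res app_smul)
open GrothLib.CMReg (tw raise)

noncomputable section

namespace GrothLib.Fib5

variable {X : Scheme.{u}} (c : Cocycle X) (M : X.Modules) (n : ℕ)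

/-- The diagonal components. -/
def diag {V : X.Opens} (t : c.msect (c.modTwist M n) 1 V) : c.msect M (n + 1) V :=
  ⟨fun i => mres M (le_inf le_rfl inf_le_right) ((show c.msect M n (V ⊓ c.D i) from t.1 i).1 i),
    fun i j W hi hj => by
      have ho := c.msect_spec t i j hi hj
      have hWi : W ≤ W ⊓ c.D i := le_inf le_rfl (hi.trans inf_le_right)
      have hoi := congrArg (fun u : c.msect M n W => mres M hWi (u.1 i)) ho
      let tj : c.msect M n (V ⊓ c.D j) := t.1 j
      have hin := c.msect_spec tj i j (W := W) (le_inf hj (hi.trans inf_le_right))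
        (le_inf hj (hj.trans inf_le_right))
      simp only [InvExt.mres_mres]
      refine Eq.trans ?_ ((hoi.trans (show _ = res (le_rfl : W ≤ W) (c.G i j (hi.trans inf_le_right)
          (hj.trans inf_le_right)) ^ 1 • mres M (le_inf hj (hi.trans inf_le_right)) (tj.1 i) from ?_)).trans ?_)
      · show _ = mres M hWi (mres M (inf_le_inf_right _ hi) ((show c.msect M n _ from t.1 i).1 i))
        rw [InvExt.mres_mres]
      · show mres M hWi (res (inf_le_left : W ⊓ c.D i ≤ W) (c.G i j (hi.trans inf_le_right)
          (hj.trans inf_le_right) ^ 1) • mres M (inf_le_inf_right _ hj) (tj.1 i)) = _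
        rw [Ample.mres_smul', Ample.res_res, InvExt.mres_mres, map_pow]
      · rw [hin, Ample.res_self, pow_one, smul_smul, ← pow_succ']⟩

theorem diag_apply {V : X.Opens} (t : c.msect (c.modTwist M n) 1 V) (i : c.ι) :
    (diag c M n t).1 i =
      mres M (le_inf le_rfl inf_le_right) ((show c.msect M n (V ⊓ c.D i) from t.1 i).1 i) := rfl

/-- `(M(n))(1) ⟶ M(n + 1)`. -/
def flat : (tw c).obj (c.modTwist M n) ⟶ c.modTwist M (n + 1) :=
  ⟨{
    app := fun V => ModuleCat.ofHom
      (X := ((c.modTwist (c.modTwist M n) 1).val.obj V : Type u))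
      (Y := ((c.modTwist M (n + 1)).val.obj V : Type u))
      { toFun := fun (t : c.msect (c.modTwist M n) 1 V.unop) => diag c M n t
        map_add' := fun (t t' : c.msect (c.modTwist M n) 1 V.unop) => c.msect_ext fun i => map_add _ _ _
        map_smul' := fun (r : Γ(X, V.unop)) (t : c.msect (c.modTwist M n) 1 V.unop) => c.msect_ext fun i => by
          show mres M _ (res (inf_le_left : V.unop ⊓ c.D i ⊓ c.D i ≤ V.unop ⊓ c.D i)
            (res (inf_le_left : V.unop ⊓ c.D i ≤ V.unop) r) • _) = res _ r • mres M _ _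
          rw [Ample.mres_smul', Ample.res_res, Ample.res_res] }
    naturality := fun {V W} f => by
      ext (t : c.msect (c.modTwist M n) 1 V.unop)
      refine c.msect_ext fun i => ?_
      show mres M _ (mres M _ ((show c.msect M n _ from t.1 i).1 i)) = mres M _ (mres M _ _)
      rw [InvExt.mres_mres, InvExt.mres_mres] }⟩

theorem flat_app {V : X.Opens} (t : c.msect (c.modTwist M n) 1 V) :
    (show c.msect M (n + 1) V from (flat c M n).app V t) = diag c M n t := rfl

theorem bijective_flat_app (V : X.Opens) : Function.Bijective ((flat c M n).app V) := by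
  constructor
  · intro (t : c.msect (c.modTwist M n) 1 V) (t' : c.msect (c.modTwist M n) 1 V) e
    refine c.msect_ext fun i => ?_
    let u : c.msect M n (V ⊓ c.D i) := t.1 i
    let u' : c.msect M n (V ⊓ c.D i) := t'.1 i
    refine (show u = u' from c.msect_ext_of_le (i := i) inf_le_right ?_)
    have h := congrArg (fun s : c.msect M (n + 1) V =>
      mres M (inf_le_left : V ⊓ c.D i ⊓ c.D i ≤ V ⊓ c.D i) (s.1 i)) e
    change mres M _ (mres M _ (u.1 i)) = mres M _ (mres M _ (u'.1 i)) at h
    simpa only [InvExt.mres_mres, InvExt.mres_self] using h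
  · intro (w : c.msect M (n + 1) V)
    refine ⟨(⟨fun i => c.mbase n i inf_le_right (w.1 i), fun i j W hi hj => ?_⟩ :
      c.msect (c.modTwist M n) 1 V), c.msect_ext fun i => ?_⟩
    · refine c.msect_ext_of_le (hi.trans inf_le_right) (i := i) ?_
      show mres M _ ((c.mbase n i inf_le_right (w.1 i)).1 i) =
        res _ (c.G i j _ _ ^ 1) • mres M _ ((c.mbase n j inf_le_right (w.1 j)).1 i)
      rw [c.mbase_self]
      show _ = _ • mres M _ (c.G i j _ _ ^ n • mres M _ (w.1 j))
      simp only [InvExt.mres_mres, Ample.mres_smul', map_pow, Cocycle.res_G, smul_smul, ← pow_add]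
      have hw := c.msect_spec w i j (W := W ⊓ c.D i) (inf_le_left.trans hi) (inf_le_left.trans hj)
      exact hw.trans (congrArg (fun p => c.G i j _ _ ^ p • _) (add_comm n 1))
    · show mres M _ ((c.mbase n i inf_le_right (w.1 i)).1 i) = w.1 i
      rw [c.mbase_self, InvExt.mres_mres, InvExt.mres_self]

instance isIso_flat : IsIso (flat c M n) :=
  Scheme.Modules.Hom.isIso_iff_isIso_app.mpr fun U =>
    (ConcreteCategory.isIso_iff_bijective _).mpr (bijective_flat_app c M n U)

/-- Multiplication by a section, one step up. -/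
def up (a : c.sect 1 ⊤) : c.modTwist M n ⟶ c.modTwist M (n + 1) := c.mraiseHom M a n 1

theorem up_apply (a : c.sect 1 ⊤) {V : X.Opens} (b : c.msect M n V) (i : c.ι) :
    (show c.msect M (n + 1) V from (up c M n a).app V b).1 i =
      res (inf_le_inf_right (c.D i) (le_top : V ≤ ⊤)) (a.1 i) • b.1 i :=
  congrArg (fun r : Γ(X, V ⊓ c.D i) => r • b.1 i) (pow_one _)

theorem raise_flat (a : c.sect 1 ⊤) : raise c a (c.modTwist M n) ≫ flat c M n = up c M n a :=
  Scheme.Modules.hom_ext _ _ fun V => by
    ext (b : c.msect M n V)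
    refine c.msect_ext fun i => ?_
    refine Eq.trans ?_ (up_apply c M n a b i).symm
    show mres M _ (res (inf_le_left : V ⊓ c.D i ⊓ c.D i ≤ V ⊓ c.D i)
      (res (inf_le_inf_right _ (le_top : V ≤ ⊤)) (a.1 i)) •
        mres M (inf_le_inf_right _ (inf_le_left : V ⊓ c.D i ≤ V)) (b.1 i)) = _
    rw [Ample.mres_smul', Ample.res_res, Ample.res_res, InvExt.mres_mres, InvExt.mres_self]

theorem up_comm_apply (a a' : c.sect 1 ⊤) {V : X.Opens} (b : c.msect M n V) :
    c.mraise a' (c.mraise a b 1) 1 = c.mraise a (c.mraise a' b 1) 1 := by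
  refine c.msect_ext fun i => ?_
  simp only [Cocycle.mraise_apply, smul_smul]
  rw [mul_comm]

theorem bijective_up_app (a : c.sect 1 ⊤) {V : X.Opens} (hV : V ≤ c.locus a) :
    Function.Bijective ((up c M n a).app V) :=
  c.bijective_mraise a 1 hV

end GrothLib.Fib5
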