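import Groth.Agent.Lib.Fib5.Alg
import Groth.Agent.Lib.Fib5.Flat
import Groth.Agent.Lib.CMReg.GenKoszul
import Groth.Agent.Lib.PushKR17.Acy
import Groth.Agent.Lib.RelAssCrit8.Basic
import Groth.Agent.Lib.QCoh.FT

/-!
# Acyclic twists over an affine base have finite fibrewise support
-/

universe u

set_option backward.isDefEq.respectTransparency false
set_option autoImplicit false
set_option maxHeartbeats 600000

open AlgebraicGeometry CategoryTheory CategoryTheory.Limits TopologicalSpace Opposite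
open GrothLib.InvExt (mres)
open GrothLib.Ample (Cocycle res app_smul app_mres)
open GrothLib.CMReg (tw raise twPow twCommIso Covers)

noncomputable section

namespace GrothLib.Fib5

variable {W S : Scheme.{u}} (q : W ⟶ S)

/-- Functions of the base on an open upstairs. -/
def rho (V : W.Opens) : Γ(S, ⊤) →+* Γ(W, V) :=
  (W.presheaf.map (homOfLE (le_top : V ≤ ⊤)).op).hom.comp q.appTop.hom

/-- Sections as modules over the base. -/
def Sec (_q : W ⟶ S) (G : W.Modules) (V : W.Opens) : Type u := Γ(G, V)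

instance (G : W.Modules) (V : W.Opens) : AddCommGroup (Sec q G V) :=
  inferInstanceAs (AddCommGroup Γ(G, V))

instance (G : W.Modules) (V : W.Opens) : Module Γ(S, ⊤) (Sec q G V) :=
  Module.compHom Γ(G, V) (rho q V)

/-- A morphism on sections, over the base. -/
def secMap {G G' : W.Modules} (φ : G ⟶ G') (V : W.Opens) : Sec q G V →ₗ[Γ(S, ⊤)] Sec q G' V where
  toFun := φ.app V
  map_add' := map_add _
  map_smul' r x := app_smul φ (rho q V r) (show Γ(G, V) from x)

/-- Restriction, over the base. -/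
def secRes (G : W.Modules) (V : W.Opens) : Sec q G ⊤ →ₗ[Γ(S, ⊤)] Sec q G V where
  toFun := mres G le_top
  map_add' := map_add _
  map_smul' r x := by
    refine (Ample.mres_smul' _ le_top (rho q ⊤ r) (show Γ(G, ⊤) from x)).trans ?_
    show res (le_top : V ≤ ⊤) (res (le_rfl : (⊤ : W.Opens) ≤ ⊤) (q.appTop r)) • mres G (le_top : V ≤ ⊤) (show Γ(G, ⊤) from x) =
      res (le_top : V ≤ ⊤) (q.appTop r) • mres G (le_top : V ≤ ⊤) (show Γ(G, ⊤) from x)
    rw [Ample.res_self]

variable (D : W.Opens) (m : Ideal Γ(S, ⊤))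

/-- Sections on `D` modulo the ideal. -/
abbrev Qb (G : W.Modules) : Type u := Sec q G D ⧸ (m • ⊤ : Submodule Γ(S, ⊤) (Sec q G D))

/-- Global sections in the quotient. -/
def resQ (G : W.Modules) : Sec q G ⊤ →ₗ[Γ(S, ⊤)] Qb q D m G := (Submodule.mkQ _).comp (secRes q G D)

/-- A morphism on the quotients. -/
def qMap {G G' : W.Modules} (φ : G ⟶ G') : Qb q D m G →ₗ[Γ(S, ⊤)] Qb q D m G' :=
  Submodule.mapQ _ _ (secMap q φ D) (by
    rw [← Submodule.map_le_iff_le_comap, Submodule.map_smul'']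
    exact Submodule.smul_mono le_rfl le_top)

theorem qMap_mk {G G' : W.Modules} (φ : G ⟶ G') (x : Sec q G D) :
    qMap q D m φ (Submodule.Quotient.mk x) = Submodule.Quotient.mk (secMap q φ D x) := rfl

theorem qMap_resQ {G G' : W.Modules} (φ : G ⟶ G') (x : Sec q G ⊤) :
    qMap q D m φ (resQ q D m G x) = resQ q D m G' (secMap q φ ⊤ x) :=
  congrArg Submodule.Quotient.mk (app_mres φ (le_top : D ≤ ⊤) (show Γ(G, ⊤) from x))

theorem injective_qMap {G G' : W.Modules} (φ : G ⟶ G') (h : Function.Bijective (φ.app D)) :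
    Function.Injective (qMap q D m φ) := by
  rw [← LinearMap.ker_eq_bot, Submodule.eq_bot_iff]
  intro x hx
  obtain ⟨y, rfl⟩ := Submodule.Quotient.mk_surjective _ x
  rw [LinearMap.mem_ker, qMap_mk, Submodule.Quotient.mk_eq_zero] at hx
  have htop : (⊤ : Submodule Γ(S, ⊤) (Sec q G' D)) = (⊤ : Submodule Γ(S, ⊤) (Sec q G D)).map (secMap q φ D) := by
    rw [Submodule.map_top]
    exact ((LinearMap.range_eq_top (f := secMap q φ D)).2 h.2).symm
  rw [htop, ← Submodule.map_smul''] at hx
  obtain ⟨y', hy', e⟩ := hx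
  rw [Submodule.Quotient.mk_eq_zero, ← h.1 e]
  exact hy'

/-- The size of the image of the global sections. -/
def delta (G : W.Modules) : ℕ∞ := Module.length Γ(S, ⊤) (LinearMap.range (resQ q D m G))

theorem delta_le {G G' : W.Modules} (φ : G ⟶ G') (h : Function.Bijective (φ.app D)) :
    delta q D m G ≤ delta q D m G' := by
  let f : LinearMap.range (resQ q D m G) →ₗ[Γ(S, ⊤)] LinearMap.range (resQ q D m G') :=
    ((qMap q D m φ).comp (LinearMap.range (resQ q D m G)).subtype).codRestrict _ (by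
      rintro ⟨_, x, rfl⟩
      exact ⟨secMap q φ ⊤ x, (qMap_resQ q D m φ x).symm⟩)
  exact Module.length_le_of_injective f fun x y e =>
    Subtype.ext (injective_qMap q D m φ h (congrArg Subtype.val e))

theorem delta_le_of_iso {G G' : W.Modules} (e : G ≅ G') : delta q D m G ≤ delta q D m G' :=
  delta_le q D m e.hom (ConcreteCategory.bijective_of_isIso (e.hom.app D))

theorem finite_sec [IsProper q] [IsAffine S] [IsLocallyNoetherian S] {G : W.Modules} (hG : Coh.IsCoh G) :
    Module.Finite Γ(S, ⊤) (Sec q G ⊤) := by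
  obtain ⟨hq, hf⟩ := PushKR17.isCoh_push q hG
  haveI := hq
  haveI := QCoh.moduleFinite_of_isFiniteType _ hf (isAffineOpen_top S)
  let e : Γ((Scheme.Modules.pushforward q).obj G, ⊤) →ₗ[Γ(S, ⊤)] Sec q G ⊤ :=
    { toFun := fun x => x
      map_add' := fun _ _ => rfl
      map_smul' := fun r x => by
        show q.appTop r • (show Γ(G, ⊤) from x) = res (le_rfl : (⊤ : W.Opens) ≤ ⊤) (q.appTop r) • _
        rw [Ample.res_self] }
  exact Module.Finite.of_surjective e fun x => ⟨x, rfl⟩

theorem artinian_noetherian_range [IsProper q] [IsAffine S] [IsLocallyNoetherian S] [m.IsMaximal]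
    {G : W.Modules} (hG : Coh.IsCoh G) :
    IsArtinian Γ(S, ⊤) (LinearMap.range (resQ q D m G)) ∧
      IsNoetherian Γ(S, ⊤) (LinearMap.range (resQ q D m G)) := by
  haveI := finite_sec q hG
  refine artinian_noetherian_of_killed m fun r hr y => ?_
  obtain ⟨x, hx⟩ := Submodule.Quotient.mk_surjective _ y.1
  refine Subtype.ext ?_
  rw [Submodule.coe_smul, ← hx, ← Submodule.Quotient.mk_smul, ZeroMemClass.coe_zero,
    Submodule.Quotient.mk_eq_zero]
  exact Submodule.smul_mem_smul hr Submodule.mem_top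

variable {c : Cocycle W} {a : ℕ → c.sect 1 ⊤} {r : ℕ} {H : ℤ → W.Modules}

theorem nonempty_twPow_H (htw : ∀ t, Nonempty ((tw c).obj (H t) ≅ H (t + 1))) :
    ∀ (s : ℕ) (t u : ℤ), t + s = u → Nonempty ((twPow c s).obj (H t) ≅ H u) := by
  intro s
  induction s with
  | zero => intro t u h; exact ⟨eqToIso (by rw [← h, Nat.cast_zero, add_zero]; rfl)⟩
  | succ s ih =>
    intro t u h
    obtain ⟨e⟩ := htw t
    obtain ⟨g⟩ := ih (t + 1) u (by rw [← h]; push_cast; ring)
    exact ⟨(twPow c s).mapIso e ≪≫ g⟩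

theorem nonempty_modTwist_H (htw : ∀ t, Nonempty ((tw c).obj (H t) ≅ H (t + 1))) (t : ℤ) :
    ∀ (i : ℕ) (u : ℤ), t + (1 + i : ℕ) = u → Nonempty (c.modTwist (H t) (1 + i) ≅ H u) := by
  intro i
  induction i with
  | zero =>
    intro u h
    obtain rfl : t + 1 = u := by simpa using h
    exact htw t
  | succ i ih =>
    intro u h
    obtain ⟨e⟩ := ih (t + (1 + i : ℕ)) rfl
    obtain ⟨g⟩ := htw (t + (1 + i : ℕ))
    obtain rfl : t + (1 + i : ℕ) + 1 = u := by rw [← h]; push_cast; ring
    exact ⟨(asIso (flat c (H t) (1 + i))).symm ≪≫ (tw c).mapIso e ≪≫ g⟩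

theorem exists_sum_up (hcov : Covers c a (r + 1)) (htw : ∀ t, Nonempty ((tw c).obj (H t) ≅ H (t + 1)))
    (hvan : ∀ t (i : ℕ), 0 < i → Subsingleton (Coh.HH W (H t) i)) (M : W.Modules) (n : ℕ) (u : ℤ)
    (e : c.modTwist M n ≅ H u) (z : Γ(c.modTwist M (n + 1), ⊤)) :
    ∃ s : Fin (r + 1) → Γ(c.modTwist M n, ⊤), z = ∑ l : Fin (r + 1), (up c M n (a l)).app ⊤ (s l) := by
  obtain ⟨g⟩ := nonempty_twPow_H htw r (u - r) u (by ring)
  have hv : ∀ s, s < r → Subsingleton (Coh.HH W ((twPow c s).obj (H (u - r))) (1 + (r - 1 - s))) := by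
    intro s _
    obtain ⟨g'⟩ := nonempty_twPow_H htw s (u - r) (u - r + s) rfl
    exact CMReg.subsingleton_of_iso g'.symm (hvan _ _ (by omega))
  have h : ∀ z : Γ((tw c).obj ((twPow c r).obj (H (u - r))), ⊤), ∃ s : Fin (r + 1) → Γ((twPow c r).obj (H (u - r)), ⊤),
      z = ∑ l : Fin (r + 1), (raise c (a l) ((twPow c r).obj (H (u - r)))).app ⊤ (s l) := by
    intro z
    let α := twCommIso c r (H (u - r))
    obtain ⟨s, hs⟩ := CMReg.exists_sum_twPow hcov (H (u - r)) hv (α.hom.app ⊤ z)
    refine ⟨s, ?_⟩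
    apply (ConcreteCategory.bijective_of_isIso (α.hom.app ⊤)).1
    rw [hs, map_sum]
    refine Finset.sum_congr rfl fun l _ => ?_
    rw [← CMReg.raise_twCommIso]
    rfl
  obtain ⟨s, hs⟩ := CMReg.exists_sum_transfer c a (e ≪≫ g.symm) h ((inv (flat c M n)).app ⊤ z)
  refine ⟨s, ?_⟩
  have hz : z = (flat c M n).app ⊤ ((inv (flat c M n)).app ⊤ z) := by
    rw [← ConcreteCategory.comp_apply, ← Scheme.Modules.Hom.comp_app, IsIso.inv_hom_id]
    rfl
  rw [hz, hs, map_sum]
  refine Finset.sum_congr rfl fun l _ => ?_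
  rw [← ConcreteCategory.comp_apply, ← Scheme.Modules.Hom.comp_app, raise_flat]

/-- Iterated multiplication by one section, from level one. -/
def upPow (c : Cocycle W) (M : W.Modules) (b : c.sect 1 ⊤) : ∀ i : ℕ, c.modTwist M 1 ⟶ c.modTwist M (1 + i)
  | 0 => 𝟙 _
  | i + 1 => upPow c M b i ≫ up c M (1 + i) b

theorem upPow_succ_app (c : Cocycle W) (M : W.Modules) (b : c.sect 1 ⊤) (i : ℕ) {V : W.Opens}
    (x : Γ(c.modTwist M 1, V)) :
    (upPow c M b (i + 1)).app V x = (up c M (1 + i) b).app V ((upPow c M b i).app V x) := by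
  rw [upPow, Scheme.Modules.Hom.comp_app, ConcreteCategory.comp_apply]
  rfl

theorem upPow_zero_app (c : Cocycle W) (M : W.Modules) (b : c.sect 1 ⊤) {V : W.Opens}
    (x : Γ(c.modTwist M 1, V)) : (upPow c M b 0).app V x = x := by
  rw [upPow, Scheme.Modules.Hom.id_app]
  rfl

theorem upPow_apply (c : Cocycle W) (M : W.Modules) (b : c.sect 1 ⊤) {V : W.Opens} (x : c.msect M 1 V) (p : c.ι) :
    ∀ i : ℕ, (show c.msect M (1 + i) V from (upPow c M b i).app V x).1 p =
      res (inf_le_inf_right (c.D p) (le_top : V ≤ ⊤)) (b.1 p) ^ i • x.1 p := by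
  intro i
  induction i with
  | zero =>
    rw [pow_zero, one_smul]
    exact congrArg (fun t : c.msect M 1 V => t.1 p) (upPow_zero_app c M b x)
  | succ i ih =>
    let y : c.msect M (1 + i) V := (upPow c M b i).app V x
    refine (congrArg (fun t : c.msect M (1 + i + 1) V => t.1 p) (upPow_succ_app c M b i x)).trans ?_
    refine (up_apply c M (1 + i) b y p).trans ?_
    rw [show y.1 p = _ from ih, smul_smul, ← pow_succ']

theorem bijective_upPow (c : Cocycle W) (M : W.Modules) (b : c.sect 1 ⊤) :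
    ∀ i : ℕ, Function.Bijective ((upPow c M b i).app (c.locus b)) := by
  intro i
  induction i with
  | zero =>
    convert Function.bijective_id using 1
    exact funext fun x => upPow_zero_app c M b x
  | succ i ih =>
    have h := (bijective_up_app c M (1 + i) b (le_refl (c.locus b))).comp ih
    have e : ⇑((upPow c M b (i + 1)).app (c.locus b)).hom =
        fun x => (up c M (1 + i) b).app (c.locus b) ((upPow c M b i).app (c.locus b) x) :=
      funext fun x => upPow_succ_app c M b i x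
    exact (congrArg Function.Bijective e).mpr h

variable [IsProper q] [IsAffine S] [IsLocallyNoetherian S] [m.IsMaximal]

/-- Some twist has all of the sections on a coordinate open modulo a maximal ideal coming from global ones. -/
theorem exists_isArtinian (hcov : Covers c a (r + 1)) (htw : ∀ t, Nonempty ((tw c).obj (H t) ≅ H (t + 1)))
    (hvan : ∀ t (i : ℕ), 0 < i → Subsingleton (Coh.HH W (H t) i)) (hH : ∀ t, Coh.IsCoh (H t))
    (l : Fin (r + 1)) :
    ∃ (G : W.Modules) (t : ℤ), Nonempty (G ≅ H t) ∧ IsArtinian Γ(S, ⊤) (Qb q (c.locus (a l)) m G) := by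
  haveI : CompactSpace W := QuasiCompact.compactSpace_of_compactSpace q
  haveI : QuasiSeparatedSpace W := quasiSeparatedSpace_of_quasiSeparated q
  let D := c.locus (a l)
  let δ : ℤ → ℕ∞ := fun t => delta q D m (H t)
  let t₀ := Function.argmin δ
  have hmin : ∀ t, δ t₀ ≤ δ t := fun t => Function.argmin_le δ t
  let M := H (t₀ - 2)
  haveI := (hH (t₀ - 2)).1
  have hG : ∀ i : ℕ, ∃ u : ℤ, Nonempty (c.modTwist M (1 + i) ≅ H u) := fun i =>
    ⟨_, nonempty_modTwist_H htw (t₀ - 2) i _ rfl⟩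
  have hcoh : ∀ i : ℕ, Coh.IsCoh (c.modTwist M (1 + i)) := fun i => by
    obtain ⟨u, ⟨e⟩⟩ := hG i
    exact QCoh.isCoh_of_iso e.symm (hH u)
  let P : ℕ → Type u := fun i => Sec q (c.modTwist M (1 + i)) ⊤
  let Q : ℕ → Type u := fun i => Qb q D m (c.modTwist M (1 + i))
  let ρ : ∀ i, P i →ₗ[Γ(S, ⊤)] Q i := fun i => resQ q D m _
  let A : Fin (r + 1) → ∀ i, P i →ₗ[Γ(S, ⊤)] P (i + 1) := fun j i => secMap q (up c M (1 + i) (a j)) ⊤
  let B : Fin (r + 1) → ∀ i, Q i →ₗ[Γ(S, ⊤)] Q (i + 1) := fun j i => qMap q D m (up c M (1 + i) (a j))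
  have hcomm : ∀ j j' i x, B j (i + 1) (B j' i x) = B j' (i + 1) (B j i x) := fun j j' i x => by
    obtain ⟨y, rfl⟩ := Submodule.Quotient.mk_surjective _ x
    exact congrArg Submodule.Quotient.mk (up_comm_apply c M (1 + i) (a j') (a j) (show c.msect M (1 + i) D from y))
  have hsum : ∀ i (z : P (i + 2)), ∃ s : Fin (r + 1) → P (i + 1), z = ∑ j, A j (i + 1) (s j) := fun i z => by
    obtain ⟨u, ⟨e⟩⟩ := hG (i + 1)
    exact exists_sum_up hcov htw hvan M (1 + (i + 1)) u e z
  -- minimality gives generation at the bottom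
  have h01 : LinearMap.range (ρ 1) ≤ (LinearMap.range (ρ 0)).map (B l 0) := by
    obtain ⟨e₀⟩ := nonempty_modTwist_H htw (t₀ - 2) 0 (t₀ - 1) (by push_cast; ring)
    obtain ⟨e₁⟩ := nonempty_modTwist_H htw (t₀ - 2) 1 t₀ (by push_cast; ring)
    have hle : Module.length Γ(S, ⊤) (LinearMap.range (ρ 1)) ≤ Module.length Γ(S, ⊤) (LinearMap.range (ρ 0)) :=
      ((delta_le_of_iso q D m e₁).trans (hmin (t₀ - 1))).trans (delta_le_of_iso q D m e₀.symm)
    have hinj : Function.Injective (B l 0) :=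
      injective_qMap q D m _ (bijective_up_app c M _ (a l) le_rfl)
    let g : LinearMap.range (ρ 0) →ₗ[Γ(S, ⊤)] LinearMap.range (ρ 1) :=
      ((B l 0).comp (LinearMap.range (ρ 0)).subtype).codRestrict _ (by
        rintro ⟨_, x, rfl⟩
        exact ⟨A l 0 x, (qMap_resQ q D m _ x).symm⟩)
    have hg : Function.Injective g := fun x y e => Subtype.ext (hinj (congrArg Subtype.val e))
    obtain ⟨_, _⟩ := artinian_noetherian_range q D m (G := c.modTwist M (1 + 1)) (hcoh 1)
    have htop : LinearMap.range g = ⊤ := by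
      by_contra hne
      have h1 := Submodule.length_lt hne
      rw [← (LinearEquiv.ofInjective g hg).length_eq] at h1
      exact absurd (h1.trans_le hle) (lt_irrefl _)
    intro y hy
    obtain ⟨x, hx⟩ : ∃ x, g x = ⟨y, hy⟩ := LinearMap.range_eq_top.1 htop _
    exact ⟨x.1, x.2, congrArg Subtype.val hx⟩
  have hstep := map_range_eq_of_system P Q ρ A B (fun j i x => (qMap_resQ q D m _ x).symm) hcomm hsum l h01
  let F : ∀ i, Q 0 →ₗ[Γ(S, ⊤)] Q i := fun i => qMap q D m (upPow c M (a l) i)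
  have hF : ∀ i, (LinearMap.range (ρ 0)).map (F i) = LinearMap.range (ρ i) := by
    intro i
    induction i with
    | zero =>
      have h0 : F 0 = LinearMap.id := LinearMap.ext fun x => by
        obtain ⟨y, rfl⟩ := Submodule.Quotient.mk_surjective _ x
        rfl
      rw [h0, Submodule.map_id]
    | succ i ih =>
      have h1 : F (i + 1) = (B l i).comp (F i) := LinearMap.ext fun x => by
        obtain ⟨y, rfl⟩ := Submodule.Quotient.mk_surjective _ x
        rfl
      rw [h1, Submodule.map_comp, ih, hstep]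
  -- everything is reached
  have htop : LinearMap.range (ρ 0) = ⊤ := by
    refine top_le_iff.1 fun x _ => ?_
    obtain ⟨y, rfl⟩ := Submodule.Quotient.mk_surjective _ x
    let β : c.msect M 1 D := y
    obtain ⟨i, b, hb⟩ := c.exists_mextend (a l) β
    let b' : c.msect M (1 + i) ⊤ := c.msectCast (by rw [one_mul]) b
    have hmem : F i (Submodule.Quotient.mk y) ∈ LinearMap.range (ρ i) := by
      refine ⟨b', congrArg Submodule.Quotient.mk ?_⟩
      show (show c.msect M (1 + i) D from c.msectRes le_top b') =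
        (show c.msect M (1 + i) D from (upPow c M (a l) i).app D β)
      refine c.msect_ext fun p => Eq.trans ?_ (upPow_apply c M (a l) β p i).symm
      exact (congrArg (fun t : c.msect M (1 + 1 * i) D => t.1 p) hb).trans (c.mraise_apply (a l) β i p)
    rw [← hF i] at hmem
    obtain ⟨x', hx', e⟩ := hmem
    exact injective_qMap q D m _ (bijective_upPow c M (a l) i) e ▸ hx'
  obtain ⟨u, he⟩ := hG 0
  refine ⟨c.modTwist M (1 + 0), u, he, ?_⟩
  obtain ⟨_, _⟩ := artinian_noetherian_range q D m (G := c.modTwist M (1 + 0)) (hcoh 0)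
  exact ((LinearEquiv.ofEq _ _ htop).trans Submodule.topEquiv).isArtinian_iff.1
    (show IsArtinian Γ(S, ⊤) (LinearMap.range (ρ 0)) from inferInstance)

end GrothLib.Fib5
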