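import Groth.Agent.Lib.Fib5.Points
import Groth.Agent.Lib.CMReg.Mult
import Groth.Agent.Lib.Ample.GenLocusPull
import Groth.Agent.Lib.RelTilde8.Period
import Groth.Agent.Lib.BCCoh.RpushAffine
import Groth.Agent.Lib.QCoh.SchSupport
import Groth.Agent.Lib.Euler.Support
import Groth.Agent.Lib.Cohom.PushDerived
import Groth.Agent.Lib.VA.QCohPullback

/-!
# Supports of dimension zero in the fibres and vanishing of all twisted higher direct images
-/

universe u

set_option backward.isDefEq.respectTransparency false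
set_option autoImplicit false
set_option maxHeartbeats 600000

open AlgebraicGeometry CategoryTheory CategoryTheory.Limits TopologicalSpace Opposite
open GrothLib.Ample (Cocycle res)
open GrothLib.CMReg (tw Covers cc coordSect)

noncomputable section

namespace GrothLib.Fib5

variable (k : Type u) [Field k] (n : ℕ) {X : Scheme.{u}} (sX : X ⟶ Spec (CommRingCat.of k))

/-- The product. -/
abbrev Z : Scheme.{u} := pullback (CohB1.ProjSpace.toSpec n k) sX

variable (F : (Z k n sX).Modules)

/-- The twists of `F`. -/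
abbrev FT (m : ℤ) : (Z k n sX).Modules :=
  CohB1.tensorMod F ((Scheme.Modules.pullback (pullback.fst (CohB1.ProjSpace.toSpec n k) sX)).obj
    (Twist.twistProjSpace n k m))

theorem isInvertible_P (m : ℤ) :
    PicF.IsInvertible ((Scheme.Modules.pullback (pullback.fst (CohB1.ProjSpace.toSpec n k) sX)).obj
      (Twist.twistProjSpace n k m)) :=
  Ample.isInvertible_pullback _ (CMReg.isInvertible_twist m)

theorem support_FT (m : ℤ) : CohB1.support (FT k n sX F m) = CohB1.support F := by
  ext z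
  obtain ⟨e⟩ := Euler.nonempty_stalk_equiv_pi (M := F) (Euler.isFinLocFreeOfRank_one' (isInvertible_P k n sX m)) z
  refine not_congr ⟨fun h => ?_, fun h => ?_⟩
  · haveI : Subsingleton (Fin 1 → F.presheaf.stalk z) := @Equiv.subsingleton _ _ e.symm.toEquiv h
    exact ⟨fun a b => congrFun (Subsingleton.elim (fun _ : Fin 1 => a) (fun _ => b)) 0⟩
  · haveI := h
    exact @Equiv.subsingleton _ _ e.toEquiv inferInstance

variable {k n sX F}

theorem isCoh_FT [IsLocallyNoetherian (Z k n sX)] (hF : Coh.IsCoh F) (m : ℤ) : Coh.IsCoh (FT k n sX F m) :=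
  CMReg.isCoh_tensorMod hF (isInvertible_P k n sX m)

theorem subsingleton_of_isZero {S : Scheme.{u}} {M : S.Modules} (h : IsZero M) (U : S.Opens) : Subsingleton Γ(M, U) :=
  subsingleton_of_forall_eq 0 fun s => by
    have e := congrArg (fun φ : M ⟶ M => φ.app U s) ((IsZero.iff_id_eq_zero M).1 h)
    simpa using e

section Necessity

variable [IsSeparated sX] [LocallyOfFiniteType sX]

/-- If all twists are acyclic, every fibre over a closed point meets the support in dimension at most zero. -/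
theorem krullDim_le_zero_of_isZero [HasInjectiveResolutions (Z k n sX).Modules] (hF : Coh.IsCoh F)
    (hR : ∀ (m : ℤ) (i : ℕ), 0 < i →
      IsZero ((Coh.Rpush (pullback.snd (CohB1.ProjSpace.toSpec n k) sX) i).obj (FT k n sX F m)))
    (x : X) (hx : IsClosed ({x} : Set X)) :
    topologicalKrullDim {z : ↥(Z k n sX) // (pullback.snd (CohB1.ProjSpace.toSpec n k) sX).base z = x ∧
      z ∈ CohB1.support F} ≤ 0 := by
  let p := pullback.snd (CohB1.ProjSpace.toSpec n k) sX
  let p₁ := pullback.fst (CohB1.ProjSpace.toSpec n k) sX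
  haveI : IsProper (CohB1.ProjSpace.toSpec n k) := Chow.isProper_toSpec n k
  haveI : IsProper p := inferInstanceAs (IsProper (pullback.snd _ _))
  haveI : IsLocallyNoetherian X := LocallyOfFiniteType.isLocallyNoetherian sX
  haveI : IsLocallyNoetherian (Z k n sX) := LocallyOfFiniteType.isLocallyNoetherian p
  haveI : X.IsSeparated := ⟨by
    rw [show terminal.from X = sX ≫ terminal.from _ from terminal.hom_ext _ _]; infer_instance⟩
  obtain ⟨U, hU, hxU⟩ : ∃ U : X.Opens, IsAffineOpen U ∧ x ∈ U := by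
    obtain ⟨U, hU, hxU, -⟩ := Opens.isBasis_iff_nbhd.1 X.isBasis_affineOpens (Opens.mem_top x)
    exact ⟨U, hU, hxU⟩
  let W : Scheme.{u} := ↑(p ⁻¹ᵁ U)
  let q : W ⟶ ↑U := p ∣_ U
  haveI : IsAffine ↑U := hU
  haveI : IsProper q := MorphismProperty.of_isPullback (P := @IsProper) (isPullback_morphismRestrict p U).flip inferInstance
  haveI : IsLocallyNoetherian ↑U := inferInstance
  let π : W ⟶ CohB1.ProjSpace n k := (p ⁻¹ᵁ U).ι ≫ p₁
  haveI : IsAffineHom π := by
    have h2 : IsPullback p₁ p (CohB1.ProjSpace.toSpec n k) sX := IsPullback.of_hasPullback _ _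
    have h := (isPullback_morphismRestrict p U).flip.paste_horiz h2
    haveI : IsAffineHom (U.ι ≫ sX) := inferInstance
    exact MorphismProperty.of_isPullback (P := @IsAffineHom) h.flip inferInstance
  let c := (cc n k).comap π
  let a : ℕ → c.sect 1 ⊤ := fun l =>
    (cc n k).pullSect π (le_top : (⊤ : W.Opens) ≤ π ⁻¹ᵁ ⊤) (coordSect n k l)
  have hloc : ∀ l, c.locus (a l) = π ⁻¹ᵁ (cc n k).locus (coordSect n k l) := fun l =>
    (cc n k).locus_pullSect π _
  have hcov : Covers c a (n + 1) := fun z => by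
    obtain ⟨l, hl, hz⟩ := CMReg.covers (π z)
    exact ⟨l, hl, (hloc l).ge hz⟩
  have haff : ∀ l : Fin (n + 1), IsAffineOpen (c.locus (a l)) := fun l => by
    rw [hloc]
    refine IsAffineOpen.preimage ?_ π
    rw [show (cc n k).locus (coordSect n k l) = Proj.basicOpen (CohB1.polyGrading n k) (MvPolynomial.X (l : Fin (n + 1))) from ?_]
    · exact Proj.isAffineOpen_basicOpen _ _ (Ample.ProjMap.X_mem l) one_pos
    · rw [coordSect, dif_pos l.2]
      exact GrTilde.locus_eq_basicOpen (𝒜 := CohB1.polyGrading n k) (N := 1) CMReg.exists_notMem (cc n k)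
        (Ample.ProjMap.pcocIso n k) (Ample.ProjMap.X_mem l)
  let H : ℤ → W.Modules := fun t => (FT k n sX F t).restrict (p ⁻¹ᵁ U).ι
  have htw : ∀ t, Nonempty ((tw c).obj (H t) ≅ H (t + 1)) := fun t => by
    let P : ℤ → (Z k n sX).Modules := fun t => (Scheme.Modules.pullback p₁).obj (Twist.twistProjSpace n k t)
    obtain ⟨e⟩ := c.nonempty_tensor_modTwist (H t) 1
    obtain ⟨g⟩ := (cc n k).nonempty_pullback_iso π (Ample.ProjMap.pcocIso n k)
    obtain ⟨g'⟩ := RelTilde8.nonempty_restrict_tensorMod_iso (p ⁻¹ᵁ U) (FT k n sX F t) (P 1)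
    obtain ⟨w⟩ := GrTilde.nonempty_twist_tensor_twist (𝒜 := CohB1.polyGrading n k) CMReg.h1 t 1
    exact ⟨e.symm ≪≫ Ample.LineData.tensorModMapIso (Iso.refl _)
        (g.symm ≪≫ ((Scheme.Modules.pullbackComp (p ⁻¹ᵁ U).ι p₁).app _).symm ≪≫
          ((Scheme.Modules.restrictFunctorIsoPullback (p ⁻¹ᵁ U).ι).app (P 1)).symm) ≪≫ g' ≪≫
      (Scheme.Modules.restrictFunctor (p ⁻¹ᵁ U).ι).mapIso (OX.tensorAssoc F (P t) (P 1) ≪≫
        Ample.LineData.tensorModMapIso (Iso.refl F)
          ((OX.pullTensorIso p₁ _ _).symm ≪≫ (Scheme.Modules.pullback p₁).mapIso w))⟩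
  have hH : ∀ t, Coh.IsCoh (H t) := fun t => Cohom.isCoh_restrict _ (isCoh_FT hF t) _
  have hvan : ∀ t (i : ℕ), 0 < i → Subsingleton (Coh.HH W (H t) i) := fun t i hi => by
    haveI := (isCoh_FT hF t).1
    obtain ⟨e, -⟩ := BCCoh.exists_Rpush_equiv p hU (FT k n sX F t) i
    haveI := subsingleton_of_isZero (hR t i hi) U
    exact e.toEquiv.subsingleton
  have hsupp : ∀ t, CohB1.support (H t) = (p ⁻¹ᵁ U).ι ⁻¹' CohB1.support F := fun t => by
    rw [← support_FT k n sX F t]
    ext z
    exact not_congr ⟨fun h => @Equiv.subsingleton _ _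
        ((Scheme.Modules.restrictStalkNatIso (p ⁻¹ᵁ U).ι z).app (FT k n sX F t)).addCommGroupIsoToAddEquiv.symm.toEquiv h,
      fun h => @Equiv.subsingleton _ _
        ((Scheme.Modules.restrictStalkNatIso (p ⁻¹ᵁ U).ι z).app (FT k n sX F t)).addCommGroupIsoToAddEquiv.toEquiv h⟩
  have hxU' : IsClosed ({(⟨x, hxU⟩ : U)} : Set U) := by
    have h := hx.preimage (continuous_subtype_val (p := fun y => y ∈ U))
    have e : ({(⟨x, hxU⟩ : U)} : Set U) = Subtype.val ⁻¹' ({x} : Set X) :=
      Set.ext fun y => Subtype.ext_iff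
    exact e ▸ h
  obtain ⟨hfin, hcl⟩ := finite_fibre_support q hcov haff htw hvan hH _ hsupp ⟨x, hxU⟩ hxU'
  let T := {z : ↥(Z k n sX) | p z = x ∧ z ∈ CohB1.support F}
  have hqι : ∀ w : W, U.ι (q w) = p ((p ⁻¹ᵁ U).ι w) := fun w => by
    rw [← Scheme.Hom.comp_apply, morphismRestrict_ι]
    rfl
  have hsub : T ⊆ (p ⁻¹ᵁ U).ι '' {w | q w = ⟨x, hxU⟩ ∧ w ∈ (p ⁻¹ᵁ U).ι ⁻¹' CohB1.support F} := by
    rintro z ⟨hz, hzs⟩
    have hzW : z ∈ p ⁻¹ᵁ U := by show p z ∈ U; rw [hz]; exact hxU
    exact ⟨⟨z, hzW⟩, ⟨Subtype.ext ((hqι ⟨z, hzW⟩).trans hz), hzs⟩, rfl⟩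
  haveI : Finite T := ((hfin.image _).subset hsub).to_subtype
  haveI : T1Space T := ⟨fun ⟨z, hz⟩ => by
    have e : closure ({z} : Set ↥(Z k n sX)) = {z} := Set.Subset.antisymm (fun y hy => by
      obtain ⟨w, ⟨hw, hws⟩, rfl⟩ := hsub hz
      have hpy : p y = x := by
        have h1 := map_mem_closure p.continuous hy (t := {x}) (fun a ha => by rw [Set.mem_singleton_iff.1 ha]; exact hz.1)
        rwa [hx.closure_eq] at h1
      have hyW : y ∈ p ⁻¹ᵁ U := by show p y ∈ U; rw [hpy]; exact hxU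
      have hs : w ⤳ (⟨y, hyW⟩ : W) :=
        (p ⁻¹ᵁ U).ι.isOpenEmbedding.isInducing.specializes_iff.1 (specializes_iff_mem_closure.2 hy)
      exact congrArg (p ⁻¹ᵁ U).ι (hcl w hw hws _ hs)) subset_closure
    have h := (isClosed_closure (s := ({z} : Set ↥(Z k n sX)))).preimage (continuous_subtype_val (p := (· ∈ T)))
    rw [e] at h
    have e' : ({⟨z, hz⟩} : Set T) = Subtype.val ⁻¹' ({z} : Set ↥(Z k n sX)) := Set.ext fun y => Subtype.ext_iff
    exact e' ▸ h⟩
  haveI : DiscreteTopology T := inferInstance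
  show topologicalKrullDim ↥T ≤ 0
  exact Order.krullDim_nonpos_iff_forall_isMax.2 fun A B hab => by
    obtain ⟨y₀, hy₀⟩ := A.2.nonempty
    intro y hy
    obtain rfl : y = y₀ := B.2.isPreirreducible.subsingleton hy (hab hy₀)
    exact hy₀

end Necessity

section Sufficiency

variable [IsSeparated sX] [LocallyOfFiniteType sX] [QuasiCompact sX]

/-- A coherent module with finite support in every closed fibre of a proper morphism has no higher direct images. -/
theorem isZero_Rpush_of_finite {Z' X' : Scheme.{u}} (f : Z' ⟶ X') [IsProper f] [IsLocallyNoetherian X']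
    [CompactSpace X'] [HasInjectiveResolutions Z'.Modules] (G : Z'.Modules) (hG : Coh.IsCoh G)
    (h : ∀ x : X', IsClosed ({x} : Set X') → {z | f z = x ∧ z ∈ CohB1.support G}.Finite)
    (i : ℕ) (hi : 0 < i) : IsZero ((Coh.Rpush f i).obj G) := by
  haveI := hG.1
  let J := QCoh.annIdeal G hG.2
  let g := J.subschemeι ≫ f
  haveI : IsProper g := inferInstanceAs (IsProper (_ ≫ _))
  have hcov : ∀ x' : X', ∃ V : X'.Opens, x' ∈ V ∧ IsFinite (g ∣_ V) := by
    intro x'
    obtain ⟨x, hx, hxc⟩ := IsClosed.exists_closed_singleton (isClosed_closure (s := ({x'} : Set X')))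
      ⟨x', subset_closure rfl⟩
    have hfin : (g ⁻¹' {x}).Finite := by
      refine ((h x hxc).preimage J.subschemeι.isClosedEmbedding.injective.injOn).subset ?_
      intro y hy
      refine ⟨hy, ?_⟩
      rw [← QCoh.coe_support_annIdeal G hG.2, ← J.range_subschemeι]
      exact Set.mem_range_self y
    obtain ⟨V, hxV, hV⟩ := exists_isFinite_morphismRestrict_of_finite_preimage_singleton g x hfin
    exact ⟨V, (specializes_iff_mem_closure.2 hx).mem_open V.2 hxV, hV⟩
  choose V hxV hV using hcov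
  haveI : IsFinite g := IsZariskiLocalAtTarget.of_iSup_eq_top (P := @IsFinite) V
    (top_le_iff.1 fun x _ => Opens.mem_iSup.2 ⟨x, hxV x⟩) hV
  haveI := QCoh.isIso_unit_annIdeal G hG.2
  let N := (Scheme.Modules.pullback J.subschemeι).obj G
  haveI : N.IsQuasicoherent := VA.isQCoh_pullback _ hG.1
  let e : G ≅ (Scheme.Modules.pushforward J.subschemeι).obj N :=
    asIso ((Scheme.Modules.pullbackPushforwardAdjunction J.subschemeι).unit.app G)
  haveI : IsAffineHom (J.subschemeι ≫ f) := inferInstanceAs (IsAffineHom g)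
  obtain ⟨i, rfl⟩ : ∃ j, i = j + 1 := ⟨i - 1, by omega⟩
  exact (Cohom.isZero_Rpush_of_acyclicOn f _ (Cohom.acyclicOn_pushforward J.subschemeι f N) i).of_iso
    ((Coh.Rpush f (i + 1)).mapIso e)

/-- Fibrewise zero-dimensional support kills all twisted higher direct images. -/
theorem isZero_of_krullDim_le_zero [HasInjectiveResolutions (Z k n sX).Modules] (hF : Coh.IsCoh F)
    (hd : ∀ x : X, IsClosed ({x} : Set X) →
      topologicalKrullDim {z : ↥(Z k n sX) // (pullback.snd (CohB1.ProjSpace.toSpec n k) sX).base z = x ∧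
        z ∈ CohB1.support F} ≤ 0) (m : ℤ) (i : ℕ) (hi : 0 < i) :
    IsZero ((Coh.Rpush (pullback.snd (CohB1.ProjSpace.toSpec n k) sX) i).obj (FT k n sX F m)) := by
  let p := pullback.snd (CohB1.ProjSpace.toSpec n k) sX
  haveI : IsProper (CohB1.ProjSpace.toSpec n k) := Chow.isProper_toSpec n k
  haveI : IsProper p := inferInstanceAs (IsProper (pullback.snd _ _))
  haveI : IsLocallyNoetherian X := LocallyOfFiniteType.isLocallyNoetherian sX
  haveI : CompactSpace X := QuasiCompact.compactSpace_of_compactSpace sX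
  haveI : IsLocallyNoetherian (Z k n sX) := LocallyOfFiniteType.isLocallyNoetherian p
  haveI : CompactSpace ↥(Z k n sX) := QuasiCompact.compactSpace_of_compactSpace p
  haveI : IsNoetherian (Z k n sX) := ⟨⟩
  haveI : NoetherianSpace ↥(Z k n sX) := inferInstance
  refine isZero_Rpush_of_finite p _ (isCoh_FT hF m) (fun x hx => ?_) i hi
  rw [support_FT]
  exact Euler.finite_of_dim_le_zero ((hx.preimage p.continuous).inter (QCoh.isClosed_support_of_isCoh hF)) (hd x hx)

end Sufficiency

end GrothLib.Fib5
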