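import Groth.Agent.Lib.Fib5.Core
import Groth.Agent.Lib.QCoh.Support

/-!
# Finiteness of the fibrewise support
-/

universe u

set_option backward.isDefEq.respectTransparency false
set_option autoImplicit false
set_option maxHeartbeats 600000

open AlgebraicGeometry CategoryTheory CategoryTheory.Limits TopologicalSpace Opposite
open GrothLib.Ample (Cocycle res)
open GrothLib.CMReg (tw Covers)

noncomputable section

namespace GrothLib.Fib5

variable {W S : Scheme.{u}} (q : W ⟶ S)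

theorem support_eq_of_iso {G G' : W.Modules} (e : G ≅ G') : CohB1.support G = CohB1.support G' := by
  ext z
  exact not_congr ⟨fun h => @Equiv.subsingleton _ _
      ((TopCat.Presheaf.stalkFunctor _ z).mapIso ((Scheme.Modules.toPresheaf W).mapIso e)).addCommGroupIsoToAddEquiv.symm.toEquiv h,
    fun h => @Equiv.subsingleton _ _
      ((TopCat.Presheaf.stalkFunctor _ z).mapIso ((Scheme.Modules.toPresheaf W).mapIso e)).addCommGroupIsoToAddEquiv.toEquiv h⟩

/-- On an affine open whose sections modulo `m` are Artinian, the support meets the fibre in finitely many points,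
closed in the open. -/
theorem finite_on_open {G : W.Modules} (hG : Coh.IsCoh G) {D : W.Opens} (hD : IsAffineOpen D) (x : S)
    (h : IsArtinian Γ(S, ⊤) (Qb q D (WeakAss.primeAt x (Opens.mem_top x)) G)) :
    {z | z ∈ D ∧ q z = x ∧ z ∈ CohB1.support G}.Finite ∧
      ∀ z, z ∈ D → q z = x → z ∈ CohB1.support G → ∀ y, z ⤳ y → y ∈ D → y = z := by
  haveI := hG.1
  haveI : Module.Finite Γ(W, D) Γ(G, D) := QCoh.moduleFinite_of_isFiniteType G hG.2 hD
  letI : Algebra Γ(S, ⊤) Γ(W, D) := (rho q D).toAlgebra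
  letI : Module Γ(S, ⊤) Γ(G, D) := (inferInstance : Module Γ(S, ⊤) (Sec q G D))
  haveI : IsScalarTower Γ(S, ⊤) Γ(W, D) Γ(G, D) := ⟨fun r a v => mul_smul (rho q D r) a v⟩
  set m := WeakAss.primeAt x (Opens.mem_top x) with hm
  obtain ⟨hfin, hmax⟩ := finite_maximal_of_artinian (A := Γ(W, D)) (M := Γ(G, D)) m h
  let pz : ∀ z : W, z ∈ D → PrimeSpectrum Γ(W, D) := fun z hz => ⟨WeakAss.primeAt z hz, inferInstance⟩
  have hmem : ∀ z (hz : z ∈ D), q z = x → z ∈ CohB1.support G →
      pz z hz ∈ Module.support Γ(W, D) Γ(G, D) ∧ m.map (algebraMap Γ(S, ⊤) Γ(W, D)) ≤ WeakAss.primeAt z hz := by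
    intro z hz hx hs
    refine ⟨(QCoh.mem_support_iff_primeAt G hD hz).1 hs, Ideal.map_le_iff_le_comap.2 ?_⟩
    subst hx
    have e := RelAssCrit8.comap_primeAt q (V := ⊤) (U := D) le_top z hz
    exact le_of_eq e.symm
  have hinj : ∀ z z' (hz : z ∈ D) (hz' : z' ∈ D), pz z hz = pz z' hz' → z = z' := fun z z' hz hz' e => by
    have h1 := (QCoh.primeAt_eq_primeIdealOf hD hz).symm.trans (e.trans (QCoh.primeAt_eq_primeIdealOf hD hz'))
    have h2 := congrArg hD.fromSpec h1
    rwa [hD.fromSpec_primeIdealOf, hD.fromSpec_primeIdealOf] at h2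
  refine ⟨?_, fun z hz hx hs y hy hyD => ?_⟩
  · exact (hfin.image fun p => hD.fromSpec p).subset fun z ⟨hz, hx, hs⟩ =>
      ⟨pz z hz, hmem z hz hx hs,
        (congrArg hD.fromSpec (QCoh.primeAt_eq_primeIdealOf hD hz)).trans (hD.fromSpec_primeIdealOf ⟨z, hz⟩)⟩
  · have := hmax (pz z hz) (hmem z hz hx hs).1 (hmem z hz hx hs).2
    have hle : WeakAss.primeAt z hz ≤ WeakAss.primeAt y hyD := fun a ha => by
      by_contra hc
      exact (WeakAss.notMem_primeAt_iff.mpr
        (hy.mem_open (W.basicOpen a).2 (WeakAss.notMem_primeAt_iff.mp hc))) ha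
    exact (hinj z y hz hyD (PrimeSpectrum.ext
      (this.eq_of_le (inferInstance : (WeakAss.primeAt y hyD).IsPrime).ne_top hle))).symm

variable {c : Cocycle W} {a : ℕ → c.sect 1 ⊤} {r : ℕ} {H : ℤ → W.Modules}
variable [IsProper q] [IsAffine S] [IsLocallyNoetherian S]

/-- **The fibrewise support is finite and consists of closed points.** -/
theorem finite_fibre_support (hcov : Covers c a (r + 1)) (haff : ∀ l : Fin (r + 1), IsAffineOpen (c.locus (a l)))
    (htw : ∀ t, Nonempty ((tw c).obj (H t) ≅ H (t + 1)))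
    (hvan : ∀ t (i : ℕ), 0 < i → Subsingleton (Coh.HH W (H t) i)) (hH : ∀ t, Coh.IsCoh (H t))
    (Z₀ : Set W) (hsupp : ∀ t, CohB1.support (H t) = Z₀) (x : S) (hx : IsClosed ({x} : Set S)) :
    {z | q z = x ∧ z ∈ Z₀}.Finite ∧ ∀ z, q z = x → z ∈ Z₀ → ∀ y, z ⤳ y → y = z := by
  have hm : (WeakAss.primeAt x (Opens.mem_top x)).IsMaximal := by
    have hS := isAffineOpen_top S
    have h := QCoh.primeAt_eq_primeIdealOf hS (Opens.mem_top x)
    rw [show WeakAss.primeAt x (Opens.mem_top x) = (hS.primeIdealOf ⟨x, Opens.mem_top x⟩).asIdeal from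
      congrArg PrimeSpectrum.asIdeal h]
    refine (PrimeSpectrum.isClosed_singleton_iff_isMaximal _).1 ?_
    have e : (hS.fromSpec : _ → S) ⁻¹' {x} = {hS.primeIdealOf ⟨x, Opens.mem_top x⟩} := by
      ext p
      constructor
      · intro hp
        exact hS.fromSpec.isOpenEmbedding.injective (hp.trans (hS.fromSpec_primeIdealOf ⟨x, _⟩).symm)
      · rintro rfl
        exact hS.fromSpec_primeIdealOf ⟨x, _⟩
    exact e ▸ hx.preimage hS.fromSpec.continuous
  have key : ∀ l : Fin (r + 1), {z | z ∈ c.locus (a l) ∧ q z = x ∧ z ∈ Z₀}.Finite ∧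
      ∀ z, z ∈ c.locus (a l) → q z = x → z ∈ Z₀ → ∀ y, z ⤳ y → y ∈ c.locus (a l) → y = z := by
    intro l
    haveI := hm
    obtain ⟨G, t, ⟨e⟩, hG⟩ := exists_isArtinian q (WeakAss.primeAt x (Opens.mem_top x)) hcov htw hvan hH l
    have hs : CohB1.support G = Z₀ := (support_eq_of_iso e).trans (hsupp t)
    have := finite_on_open q (QCoh.isCoh_of_iso e.symm (hH t)) (haff l) x hG
    rwa [hs] at this
  refine ⟨(Set.finite_iUnion fun l => (key l).1).subset fun z ⟨hz, hz'⟩ => ?_, fun z hz hz' y hy => ?_⟩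
  · obtain ⟨l, hl, hzl⟩ := hcov z
    exact Set.mem_iUnion.2 ⟨⟨l, hl⟩, hzl, hz, hz'⟩
  · obtain ⟨l, hl, hyl⟩ := hcov y
    exact (key ⟨l, hl⟩).2 z (hy.mem_open (c.locus (a l)).2 hyl) hz hz' y hy hyl

end GrothLib.Fib5
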